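import Cfsg.Prelude.Def_RootSubgroups
import Cfsg.Agent.S3099
import Cfsg.Agent.S0205
import Cfsg.Agent.S0102
import Cfsg.Agent.S0262
import Cfsg.Agent.S0126
import Cfsg.Agent.S0253
import Cfsg.Agent.S2119
import Cfsg.Agent.FW.Mat
import Cfsg.Agent.FGS.SolvRad
import Cfsg.Agent.Class.SL2Cover
import Cfsg.Agent.Solv.CoprimeSylow
import Cfsg.Agent.Grp.Card

/-! S5720, group theoretic reduction to `SL₂(p)`. -/

set_option autoImplicit false
set_option linter.unusedSectionVars false

namespace Cfsg.Agent.Fix6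

open Subgroup Cfsg.Agent.PLocal.Amb Cfsg.Agent.PLocal.SL2Nat Cfsg.Agent.Class.Dickson
open scoped MatrixGroups commutatorElement

universe u

/-- all `p`-subgroups are cyclic -/
def Cy (p : ℕ) (G : Type*) [Group G] : Prop := ∀ P : Subgroup G, IsPGroup p P → IsCyclic P

/-- the hypothesis on elements of order three -/
def H3 (G : Type*) [Group G] : Prop :=
  ∀ x y : G, orderOf x = 3 → orderOf y = 3 → (x * y) ^ 3 = 1 → y = x ∨ y = x⁻¹

section

variable {G S : Type*} [Group G] [Group S] {p : ℕ}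

theorem Cy.of_inj (h : Cy p G) (f : S →* G) (hf : Function.Injective f) : Cy p S := fun P hP =>
  have := h _ (hP.map f)
  isCyclic_of_surjective _ (P.equivMapOfInjective f hf).symm.surjective

theorem Cy.of_surj [Finite G] [Fact p.Prime] (h : Cy p G) (f : G →* S) (hf : Function.Surjective f) :
    Cy p S := fun P hP => by
  have := Finite.of_surjective f hf
  obtain ⟨T, hT⟩ := hP.exists_le_sylow
  obtain ⟨Q, rfl⟩ := Sylow.mapSurjective_surjective hf p T
  have := h _ Q.isPGroup'
  have : IsCyclic ((Q : Subgroup G).map f) :=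
    isCyclic_of_surjective _ (f.subgroupMap_surjective Q)
  exact isCyclic_of_le (H' := (Q : Subgroup G).map f) hT

theorem Cy.mem [Finite G] [hp : Fact p.Prime] (h : Cy p G) {a b : G} (ha : a ^ p = 1) (hb : b ^ p = 1)
    (c : Commute a b) (a1 : a ≠ 1) : b ∈ zpowers a := by
  have n : zpowers b ≤ 𝐍[zpowers a] := zpowers_le.2 (centralizer_le_normalizer' _
    (by rw [centralizer_zpowers]; exact mem_centralizer_singleton_iff.2 c.symm))
  have := h _ (isPGroup_sup (isPGroup_zpowers ⟨1, by simpa using hb⟩)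
    (isPGroup_zpowers ⟨1, by simpa using ha⟩) n)
  have e : Nat.card ↥(zpowers b ⊔ zpowers a) ∣ p := by
    rw [← IsCyclic.exponent_eq_card]
    refine Monoid.exponent_dvd_of_forall_pow_eq_one fun ⟨x, hx⟩ => Subtype.ext ?_
    obtain ⟨_, ⟨i, rfl⟩, _, ⟨j, rfl⟩, rfl⟩ := (mem_sup_of_le_normalizer_right n).1 hx
    change (b ^ i * a ^ j) ^ p = 1
    rw [(c.symm.zpow_zpow i j).mul_pow, ← zpow_natCast, ← zpow_natCast, ← zpow_mul, ← zpow_mul,
      mul_comm i, mul_comm j, zpow_mul, zpow_mul, zpow_natCast, zpow_natCast, ha, hb]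
    simp
  rw [eq_of_le_of_card_ge (le_sup_right : zpowers a ≤ zpowers b ⊔ zpowers a) (by
    rw [Nat.card_zpowers, orderOf_eq_prime ha a1]; exact Nat.le_of_dvd hp.out.pos e)]
  exact mem_sup_left (mem_zpowers b)

theorem cy_of [Finite G] [hp : Fact p.Prime] (h2 : p ≠ 2)
    (h : ∀ a b : G, orderOf a = p → orderOf b = p → Commute a b → b ∈ zpowers a) : Cy p G :=
  fun P hP => by_contra fun hc => by
    obtain ⟨A, -, ⟨c, e⟩, hA⟩ := S0126.result h2 hP hc
    obtain ⟨⟨a, ha⟩, a1⟩ := ne_bot_iff_exists_ne_one.1 (show A ≠ ⊥ from fun e => by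
      rw [e, card_bot] at hA
      exact (Nat.one_lt_pow two_ne_zero hp.out.one_lt).ne hA)
    have a1 : a ≠ 1 := fun e => a1 (Subtype.ext e)
    have oa := orderOf_eq_prime (e a ha) a1
    have : A ≤ zpowers a := fun b hb => by
      by_cases b1 : b = 1
      · exact b1 ▸ one_mem _
      obtain ⟨k, hk⟩ := h a b (by rw [orderOf_coe, oa]) (by rw [orderOf_coe, orderOf_eq_prime (e b hb) b1])
        (congrArg Subtype.val (setLike_mul_comm ha hb))
      exact ⟨k, Subtype.ext hk⟩
    have := card_le_of_le this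
    rw [hA, Nat.card_zpowers, oa] at this
    nlinarith [hp.out.two_le]

theorem Cy.card_le {F : Type*} [Field F] [Fintype F] [hp : Fact p.Prime] [CharP F p]
    (h : Cy p SL(2, F)) : Fintype.card F ≤ p := by
  have k : ∀ c : F, uu c ^ p = 1 := fun c => by rw [uu_pow, CharP.cast_eq_zero, zero_mul, uu_zero]
  rw [← ZMod.card p]
  refine Fintype.card_le_of_surjective (ZMod.castHom dvd_rfl F) fun c => ?_
  obtain ⟨n, hn⟩ := (mem_powers_iff_mem_zpowers.2 (h.mem (k 1) (k c) (by
    rw [Commute, SemiconjBy, ← uu_add, ← uu_add, add_comm]) (by simp [uu_eq_one_iff])))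
  exact ⟨n, by simpa using uu_injective ((uu_pow 1 n).symm.trans hn)⟩

theorem H3.of_inj (h : H3 G) (f : S →* G) (hf : Function.Injective f) : H3 S := fun x y a b c => by
  have := h (f x) (f y) (by rwa [orderOf_injective f hf]) (by rwa [orderOf_injective f hf])
    (by rw [← map_mul, ← map_pow, c, map_one])
  rwa [← map_inv, hf.eq_iff, hf.eq_iff] at this

theorem H3.cy [Finite G] (h : H3 G) : Cy 3 G :=
  have := Fact.mk Nat.prime_three
  cy_of (by decide) fun a b ha hb c => by
    rcases h a b ha hb (by rw [c.mul_pow, ← ha, pow_orderOf_eq_one, ha, ← hb, pow_orderOf_eq_one,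
      one_mul]) with e | e <;> simp [e]

theorem H3.mod [hp : Fact p.Prime] (h : H3 SL(2, ZMod p)) : p % 3 ≠ 1 := fun e => by
  have := Fact.mk Nat.prime_three
  obtain ⟨ω, hω⟩ := exists_prime_orderOf_dvd_card (G := (ZMod p)ˣ) 3 (by
    rw [ZMod.card_units]; omega)
  have w1 : (ω : ZMod p) ≠ 1 := fun e => by
    rw [Units.val_eq_one.1 e, orderOf_one] at hω; omega
  have w3 : (ω : ZMod p) ^ 3 = 1 := by rw [← Units.val_pow_eq_pow_val, ← hω, pow_orderOf_eq_one]; rfl
  have k : ∀ (s : ZMod p) (hs : s ≠ 0) (b : ZMod p), s ≠ 1 → s ^ 3 = 1 → (uu b * hh s hs) ^ 3 = 1 :=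
    fun s hs b s1 s3 => by
      have e1 : s ^ 2 + s + 1 = 0 := mul_left_cancel₀ (sub_ne_zero.2 s1) (by linear_combination s3)
      have e2 : s⁻¹ = s ^ 2 := inv_eq_of_mul_eq_one_right (by linear_combination s3)
      refine sl_ext ?_ ?_ ?_ ?_ <;> simp [pow_three, mul_apply', coe_uu, coe_hh, e2]
      · linear_combination s3
      · linear_combination b * s ^ 4 * e1
      · linear_combination (s ^ 3 + 1) * s3
  have w0 := ω.ne_zero
  generalize (ω : ZMod p) = ω at w0 w1 w3
  rcases h (hh ω w0) (uu 1 * hh ω w0)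
    (orderOf_eq_prime (by simpa [uu_zero] using k _ w0 0 w1 w3)
      fun e => w1 (by simpa [coe_hh] using congrArg (fun g : SL(2, ZMod p) => g.1 0 0) e))
    (orderOf_eq_prime (k _ w0 1 w1 w3)
      fun e => w1 (by simpa [mul_apply', coe_uu, coe_hh] using congrArg (fun g : SL(2, ZMod p) => g.1 0 0) e))
    (by
      rw [← mul_assoc, hh_mul_uu, mul_assoc, hh_mul_hh]
      exact k _ _ _ (fun e => w1 (by rw [← w3, pow_three, e, mul_one])) (by rw [mul_pow, w3, one_mul]))
    with e | e <;>
  simpa [mul_apply', inv_apply₀₁, coe_uu, coe_hh, w0] using congrArg (fun g : SL(2, ZMod p) => g.1 0 1) e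

/-- a quaternion group normalised by an element of order three centralises normal subgroups -/
theorem H3.step [Finite G] (h : H3 G) {x i j : G} (x3 : orderOf x = 3) (hz : ∀ g, Commute (i * i) g)
    (hj : x * i * x⁻¹ = j) (hk : x * j * x⁻¹ = i * j) (hc : j * i = i * i * (i * j))
    {R : Subgroup G} [hR : R.Normal] (h6 : (Nat.card R).Coprime 6) (hd : ∀ r ∈ ⁅R, R⁆, Commute i r) :
    ∀ r ∈ R, Commute i r := fun r hr => by_contra fun hn => by
  have := Fact.mk Nat.prime_three
  have o6 : ∀ r ∈ R, r ^ 6 = 1 → r = 1 := fun r hr e => orderOf_eq_one_iff.1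
    (Nat.eq_one_of_dvd_coprimes h6 (orderOf_dvd_natCard R hr) (orderOf_dvd_of_pow_eq_one e))
  have o2 : ∀ r ∈ R, r = r⁻¹ → r = 1 := fun r hr e => o6 r hr (by
    rw [show 6 = 2 * 3 from rfl, pow_mul, pow_two, mul_eq_one_iff_eq_inv.2 e, one_pow])
  have x1 : x ^ 3 = 1 := x3 ▸ pow_orderOf_eq_one x
  set a := MulAut.conj i with ha
  set b := MulAut.conj j with hb
  set c := MulAut.conj x with hc'
  have cz : MulAut.conj (i * i) = 1 := MulEquiv.ext fun g => by
    rw [MulAut.conj_apply, (hz g).eq, mul_inv_cancel_right]; rfl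
  have aa : ∀ y, a (a y) = y := fun y => by rw [← MulAut.mul_apply, ← map_mul, cz]; rfl
  have ca : ∀ y, c (a y) = b (c y) := fun y => by simp [ha, hb, hc', ← hj, mul_assoc]
  have cb : ∀ y, c (b y) = a (b (c y)) := fun y => by
    rw [← MulAut.mul_apply _ a, ← map_mul, ← hk]; simp [hb, hc', mul_assoc]
  have ab : ∀ y, b (a y) = a (b y) := fun y => by
    rw [← MulAut.mul_apply, ← MulAut.mul_apply, ← map_mul, ← map_mul, hc, map_mul, cz, one_mul]
  have bb : ∀ y, b (b y) = y := fun y => by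
    obtain ⟨y, rfl⟩ := c.surjective y
    rw [← ca, ← ca, aa]
  have ccc : ∀ y, c (c (c y)) = y := fun y => by
    rw [← MulAut.mul_apply, ← MulAut.mul_apply, ← map_mul, ← map_mul, ← pow_three', x1, map_one]; rfl
  have da : ∀ d ∈ ⁅R, R⁆, a d = d := fun d e => by simp [ha, (hd d e).eq]
  have db : ∀ d ∈ ⁅R, R⁆, b d = d := fun d e => by
    obtain ⟨d, rfl⟩ := c.surjective d
    rw [← ca, da d (by simpa [hc', mul_assoc] using (inferInstance : ⁅R, R⁆.Normal).conj_mem _ e x⁻¹)]
  have fin : ∀ (α : MulAut G) (y : G), y ∈ R → y ≠ 1 → α y = y → α (c y) = (c y)⁻¹ →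
      (∀ d ∈ ⁅R, R⁆, α d = d) → False := fun α y hy y1 e1 e2 e3 => by
    have m2 : c y ∈ R := hR.conj_mem y hy x
    have md := commutator_mem_commutator hy m2
    have e4 : c y * ⁅y, c y⁆ * (c y)⁻¹ = ⁅y, c y⁆⁻¹ := by
      nth_rw 1 [← e3 _ md]
      rw [map_commutatorElement, e1, e2]; simp only [commutatorElement_def]; group
    have e5 : c y ∈ centralizer {⁅y, c y⁆} := mem_of_pow_mem_of_coprime (n := 2)
      (mem_centralizer_singleton_iff.2 (by
        rw [← mul_inv_eq_iff_eq_mul, show c y ^ 2 * ⁅y, c y⁆ * (c y ^ 2)⁻¹ =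
          c y * (c y * ⁅y, c y⁆ * (c y)⁻¹) * (c y)⁻¹ by rw [pow_two]; group, e4, ← conj_inv, e4, inv_inv]))
      ((h6.coprime_dvd_left (orderOf_dvd_natCard R m2)).coprime_dvd_right (by decide))
    rw [mem_centralizer_singleton_iff.1 e5, mul_inv_cancel_right] at e4
    have c1 : Commute y (c y) := commutatorElement_eq_one_iff_commute.1
      (o2 _ (commutator_le_right R R md) e4)
    have c2 : Commute (c y) (c (c y)) := c1.map c
    have c3 : Commute (c (c y)) y := by simpa [ccc] using c2.map c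
    have mw := mul_mem hy (inv_mem m2)
    have w1 : y * (c y)⁻¹ ≠ 1 := fun e => y1 (o2 y hy (by
      rw [← mul_inv_eq_one.1 e, e1] at e2; exact e2))
    have x6 : ∀ n : ℤ, (x ^ n) ^ 6 = 1 := fun n => by
      rw [← zpow_natCast, ← zpow_mul, mul_comm, zpow_mul, zpow_natCast, show 6 = 3 * 2 from rfl, pow_mul,
        x1]; simp
    have k1 : ∀ w, (w * x) ^ 3 = w * c w * c (c w) := fun w => by
      rw [← mul_one (w * c w * c (c w)), ← x1]; simp [hc', pow_three, mul_assoc]
    have k2 : ∀ w, (x * (w * x)) ^ 3 = c w * c (c (c w)) * c (c (c (c (c w)))) := fun w => by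
      rw [← mul_one (c w * _ * _), ← one_mul (1 : G), ← x1]; simp [hc', pow_three, mul_assoc]
    rcases h x (y * (c y)⁻¹ * x) x3 (orderOf_eq_prime (by rw [k1]; simp [ccc]) fun e => w1 (o6 _ mw (by
      rw [eq_inv_of_mul_eq_one_left e]; simpa using x6 (-1)))) (by
        rw [k2]
        simp only [map_mul, map_inv, ccc]
        rw [mul_assoc (c y), ← mul_assoc _ y, c3.inv_left.eq, mul_assoc y, c2.symm.inv_inv.eq,
          ← mul_assoc y, c1.inv_right.eq]
        simp [mul_assoc]) with e | e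
    · exact w1 (mul_right_cancel (e.trans (one_mul x).symm))
    · exact w1 (o6 _ mw (by rw [eq_mul_inv_of_mul_eq e, ← x6 (-2)]; congr 1; group))
  have m0 : r⁻¹ * a r ∈ R := mul_mem (inv_mem hr) (hR.conj_mem r hr i)
  have y1 : r⁻¹ * a r ≠ 1 := fun e => hn (by
    have : r = i * r * i⁻¹ := inv_mul_eq_one.1 e
    exact mul_inv_eq_iff_eq_mul.1 this.symm)
  have e0 : a (r⁻¹ * a r) = (r⁻¹ * a r)⁻¹ := by simp [aa]
  generalize r⁻¹ * a r = y at m0 y1 e0
  have m1 : b y ∈ R := hR.conj_mem y m0 j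
  have md := commutator_mem_commutator m0 m1
  have c1 : Commute y (b y) := commutatorElement_eq_one_iff_commute.1
    (o2 _ (commutator_le_right R R md) (by
      nth_rw 1 [← db _ md]
      rw [map_commutatorElement, bb, commutatorElement_inv]))
  by_cases u1 : y * b y = 1
  · have e := eq_inv_of_mul_eq_one_right u1
    exact fin (a * b) y m0 y1 (by simp [e, e0]) (by rw [MulAut.mul_apply, ← cb, e, map_inv])
      fun d e => by rw [MulAut.mul_apply, db d e, da d e]
  · exact fin b _ (mul_mem m0 m1) u1 (by rw [map_mul, bb, c1.eq]) (by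
      rw [← ca, map_mul a, ← ab, e0, map_inv b, ← mul_inv_rev, ← c1.eq, map_inv]) db

theorem H3.cent [Finite G] (h : H3 G) {x i j : G} (x3 : orderOf x = 3) (hz : ∀ g, Commute (i * i) g)
    (hj : x * i * x⁻¹ = j) (hk : x * j * x⁻¹ = i * j) (hc : j * i = i * i * (i * j))
    {N : Subgroup G} [N.Normal] (h6 : (Nat.card N).Coprime 6) (hs : Group.IsSolvable N) :
    ∀ r ∈ N, Commute i r := by
  obtain ⟨n, hn⟩ := hs
  have key : ∀ n, (∀ r ∈ (derivedSeries N n).map N.subtype, Commute i r) → ∀ r ∈ N, Commute i r := by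
    intro n
    induction n with
    | zero => exact fun e r hr => e r ⟨⟨r, hr⟩, trivial, rfl⟩
    | succ n ih =>
      exact fun e => ih (h.step x3 hz hj hk hc (h6.coprime_dvd_left (card_dvd_of_le (map_subtype_le _)))
        (by rwa [← map_commutator]))
  exact key n (by simp [hn])

end

theorem inj_of_min {L : Type*} [Group L] [Finite L] {p : ℕ} [hp : Fact p.Prime] (h5 : 5 ≤ p)
    (h2 : ∀ a b : L, orderOf a = 2 → orderOf b = 2 → a = b) (h3 : H3 L) (π : L →* SL(2, ZMod p))
    (hs : Function.Surjective π) (ho : Odd (Nat.card π.ker))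
    (hm : ∀ K : Subgroup L, K.map π = ⊤ → K = ⊤) : Function.Injective π := by
  have := Fact.mk Nat.prime_three
  have h4 : 4 ≤ Nat.card (ZMod p) := by rw [Nat.card_zmod]; omega
  have pS := SL2_commutator_eq_top h4
  have pL : commutator L = ⊤ := hm _ (by
    rw [_root_.commutator_def, map_commutator, map_top_of_surjective _ hs, ← _root_.commutator_def, pS])
  have n3 : ¬ 3 ∣ Nat.card π.ker := by
    obtain ⟨P, hP⟩ := exists_isSyl 3 π.ker
    have : P.Normal := normalizer_eq_top_iff.1 (hm _ (eq_top_iff.2 fun y _ => by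
      obtain ⟨y, rfl⟩ := hs y
      obtain ⟨n, hn, x, hx, rfl⟩ := hP.frattini (g := y) (by rw [normalizer_eq_top]; trivial)
      exact ⟨x, hx, by rw [map_mul, MonoidHom.mem_ker.1 hn, one_mul]⟩))
    have := h3.cy P hP.pgrp
    have e := S0102.result (p := 3) (G := L ⧸ P) (by
      rw [_root_.commutator_def, ← map_top_of_surjective _ (QuotientGroup.mk'_surjective P), ← map_commutator,
        ← _root_.commutator_def, pL]) (fun Q => h3.cy.of_surj _ (QuotientGroup.mk'_surjective P) _ Q.isPGroup')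
      _ (QuotientGroup.mk'_surjective P) (fun x hx => mem_center_iff.2 fun g => by
        rw [QuotientGroup.ker_mk'] at hx
        have := Abelianization.commutator_subset_ker
          ((IsCyclic.mulAutMulEquiv P).toMonoidHom.comp MulAut.conjNormal) (pL ▸ mem_top g)
        rw [MonoidHom.mem_ker, MonoidHom.comp_apply, MulEquiv.coe_toMonoidHom, map_eq_one_iff _
          (MulEquiv.injective _)] at this
        exact mul_inv_eq_iff_eq_mul.1 (congrArg Subtype.val (MulEquiv.congr_fun this ⟨x, hx⟩))) pL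
    rw [QuotientGroup.ker_mk'] at e
    exact hP.eq_bot_iff.1 (hP.pgrp.card_eq_or_dvd.elim card_eq_one.1 fun d => absurd d e)
  have t0 : (2 : ZMod p) ≠ 0 := fun e => by
    have := Nat.le_of_dvd two_pos ((ZMod.natCast_eq_zero_iff 2 p).1 e)
    omega
  obtain ⟨g, w, q⟩ := exists_quatPair t0
  obtain ⟨c, c1, c2⟩ := q.exists_cycle
  have c3 : c * (g * w) * c⁻¹ = g := by
    rw [← conj_mul, c1, c2, ← mul_assoc, q.anticomm, neg_mul, mul_assoc, q.sq_right]; simp
  have cc : ∀ y, c ^ 3 * y * (c ^ 3)⁻¹ = c * (c * (c * y * c⁻¹) * c⁻¹) * c⁻¹ := fun y => by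
    rw [pow_three]; group
  obtain ⟨d, d1, d2, d3⟩ : ∃ d : SL(2, ZMod p), d * g * d⁻¹ = w ∧ d * w * d⁻¹ = g * w ∧ d ^ 3 = 1 := by
    rcases q.eq_of_centralizes (c := c ^ 3) (by rw [cc, c1, c2, c3]) (by rw [cc, c2, c3, c1]) with e | e
    · exact ⟨c, c1, c2, e⟩
    · exact ⟨-c, by simpa using c1, by simpa using c2, by rw [Odd.neg_pow (by decide), e, neg_neg]⟩
  have c6 : (Nat.card π.ker).Coprime 6 := Nat.Coprime.mul_right (m := 2) (n := 3)
    (Nat.coprime_two_right.2 ho) ((Nat.prime_three.coprime_iff_not_dvd).2 n3).symm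
  obtain ⟨x, hx, x3⟩ : ∃ x, π x = d ∧ x ^ 3 = 1 := by
    obtain ⟨y, rfl⟩ := hs d
    obtain ⟨k, k1, k2⟩ := Nat.chineseRemainder (c6.symm.coprime_dvd_left (by decide : 3 ∣ 6)) 1 0
    refine ⟨y ^ k, by rw [map_pow, pow_eq_pow_of_modEq k1 d3, pow_one], ?_⟩
    rw [← pow_mul, mul_comm, pow_mul]
    exact orderOf_dvd_iff_pow_eq_one.1 ((orderOf_dvd_natCard π.ker (by
      rw [MonoidHom.mem_ker, map_pow, d3])).trans (Nat.modEq_zero_iff_dvd.1 k2))
  have gw : g * w ≠ w * g := fun e => by
    rw [q.anticomm, ← neg_one_mul, eq_comm, mul_eq_right] at e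
    exact neg_one_ne_one_SL t0 e
  have o3 : orderOf x = 3 := orderOf_eq_prime x3 fun e => gw (by
    rw [← d1, ← hx, e]; simp)
  have hQ : IsPGroup 2 ↥(zpowers w ⊔ zpowers g) := isPGroup_sup
    (isPGroup_zpowers ⟨2, by rw [pow_two, pow_mul, pow_two w, q.sq_right]; simp⟩)
    (isPGroup_zpowers ⟨2, by rw [pow_two, pow_mul, pow_two g, q.sq_left]; simp⟩)
    (zpowers_le.2 (mem_normalizer_of_cj_le (cj_le_iff.2 (zpowers_le.2 (mem_cj.2 (by
      rw [inv_inv, q.inverts]; simp))))))
  have mg : g ∈ zpowers w ⊔ zpowers g := mem_sup_right (mem_zpowers g)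
  have mw : w ∈ zpowers w ⊔ zpowers g := mem_sup_left (mem_zpowers w)
  have nQ : d ∈ 𝐍[zpowers w ⊔ zpowers g] := mem_normalizer_of_cj_le (cj_le_iff.2 (sup_le
    (zpowers_le.2 (mem_cj.2 (by rw [inv_inv, d2]; exact mul_mem mg mw)))
    (zpowers_le.2 (mem_cj.2 (by rw [inv_inv, d1]; exact mw)))))
  obtain ⟨P, hP⟩ := Solv.exists_invariant_sylow (zpowers x) ((zpowers w ⊔ zpowers g).comap π)
    (zpowers_le.2 (mem_normalizer_of_cj_le (cj_le_iff_forall.2 fun y hy => by
      rw [mem_comap, map_mul, map_mul, map_inv, hx]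
      exact conj_mem_of_mem_normalizer nQ hy))) (by
      obtain ⟨k, hk⟩ := hQ.exists_card_eq
      rw [Nat.card_zpowers, o3, Grp.card_comap_of_surjective _ hs, hk]
      exact ((by decide : Nat.Coprime 3 2).pow_right k).mul_right
        (c6.symm.coprime_dvd_left (by decide))) (Or.inl inferInstance) 2
  have hT := isSyl_map_subtype P
  generalize P.1.map (Subgroup.subtype _) = T at hP hT
  have inj : ∀ {a b}, a ∈ T → b ∈ T → π a = π b → a = b := fun {a b} ha hb e => mul_inv_eq_one.1
    (eq_one_of_isPGroup_of_coprime hT.pgrp (mul_mem ha (inv_mem hb)) ((Nat.coprime_two_right.2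
      ho).coprime_dvd_left (orderOf_dvd_natCard π.ker (by simp [MonoidHom.mem_ker, e]))))
  obtain ⟨i, hi, ei⟩ : g ∈ T.map π := by
    have := hT.map π
    rw [map_comap_eq_self_of_surjective hs] at this
    exact this.max _ hQ this.le le_rfl mg
  have xT := hP (mem_zpowers x)
  have hj := conj_mem_of_mem_normalizer xT hi
  have ej : π (x * i * x⁻¹) = w := by rw [map_mul, map_mul, map_inv, hx, ei, d1]
  have ez : π (i * i) = -1 := by rw [map_mul, ei, q.sq_left]
  have oz : orderOf (i * i) = 2 := orderOf_eq_prime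
    (inj (pow_mem (mul_mem hi hi) 2) (one_mem _) (by rw [map_pow, ez]; simp))
    fun e => neg_one_ne_one_SL t0 (by rw [← ez, e, map_one])
  have ci := h3.cent o3 (fun y => (mul_inv_eq_iff_eq_mul.1
    (h2 _ _ ((orderOf_conj' y _).trans oz) oz)).symm) rfl
    (inj (conj_mem_of_mem_normalizer xT hj) (mul_mem hi hj) (by
      rw [map_mul, map_mul, map_inv, hx, ej, d2, map_mul, ei, ej]))
    (inj (mul_mem hj hi) (mul_mem (mul_mem hi hi) (mul_mem hi hj)) (by
      rw [map_mul, map_mul _ (i * i), ez, map_mul _ i, ei, ej, q.anticomm, neg_one_mul])) c6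
    (S0205.result ho)
  have hC : 𝐂[π.ker] = ⊤ := hm _ ((FW.normal_cases h4 _ (Normal.map inferInstance π hs)).resolve_right
    fun e => gw (mem_center_iff.1 (e ⟨i, mem_centralizer_iff.2 fun r hr => (ci r hr).symm, ei⟩) w).symm)
  refine (MonoidHom.ker_eq_bot_iff π).1 (card_eq_one.1 (by_contra fun e => ?_))
  obtain ⟨r, hr, hd⟩ := Nat.exists_prime_and_dvd e
  have := Fact.mk hr
  refine S0102.result pS (fun R => ?_) π hs (fun y hy => mem_center_iff.2 fun a =>
    (mem_centralizer_iff.1 (hC ▸ mem_top a) y hy).symm) pL hd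
  by_cases rp : r = p
  · subst rp
    exact isCyclic_of_prime_card (p := r) (((isSyl_top R).card_eq (isSyl_Up r)).trans
      (card_Up.trans (Nat.card_zmod r)))
  · exact S0262.result p r (fun e => by
      rw [e] at hd; exact Nat.not_even_iff_odd.2 ho (even_iff_two_dvd.2 hd)) rp R

theorem exists_inj {p : ℕ} [hp : Fact p.Prime] (h5 : 5 ≤ p) (n : ℕ) : ∀ (L : Type u) [Group L] [Finite L],
    Nat.card L = n → (∀ a b : L, orderOf a = 2 → orderOf b = 2 → a = b) → H3 L →
    ∀ π : L →* SL(2, ZMod p), Function.Surjective π → Odd (Nat.card π.ker) →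
      ∃ φ : SL(2, ZMod p) →* L, Function.Injective φ := by
  induction n using Nat.strong_induction_on with
  | _ n ih =>
    intro L _ _ hn h2 h3 π hs ho
    by_cases hm : ∀ K : Subgroup L, K.map π = ⊤ → K = ⊤
    · exact ⟨(MulEquiv.ofBijective π ⟨inj_of_min h5 h2 h3 π hs ho hm, hs⟩).symm.toMonoidHom,
        MulEquiv.injective _⟩
    push Not at hm
    obtain ⟨K, hK, hne⟩ := hm
    obtain ⟨φ, hφ⟩ := ih _ (hn ▸ (lt_of_le_of_ne (card_le_card_group K)
      fun e => hne ((card_eq_iff_eq_top K).1 e))) K rfl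
      (fun a b ha hb => Subtype.ext (h2 a b (by rwa [orderOf_coe]) (by rwa [orderOf_coe])))
      (h3.of_inj _ K.subtype_injective) (π.comp K.subtype) (fun y => by
        obtain ⟨x, hx, e⟩ : y ∈ K.map π := hK ▸ mem_top y
        exact ⟨⟨x, hx⟩, e⟩) (ho.of_dvd_nat (by
          rw [← MonoidHom.comap_ker]
          exact card_comap_dvd_of_injective _ _ K.subtype_injective))
    exact ⟨K.subtype.comp φ, K.subtype_injective.comp hφ⟩

theorem index_le {H : Type*} [Group H] [Finite H] {n : ℕ}
    (f : derivedSeries H n →* alternatingGroup (Fin 5)) (hf : Function.Surjective f)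
    (hk : Group.IsSolvable f.ker) : (solvableRadical H).index ≤ 120 := by
  have := alternatingGroup.isSimpleGroup (α := Fin 5) (by simp)
  have ns : ¬ Group.IsSolvable (alternatingGroup (Fin 5)) := fun e =>
    absurd (IsSimpleGroup.comm_iff_isSolvable.2 e ⟨Equiv.swap 0 1 * Equiv.swap 0 2, Equiv.Perm.mem_alternatingGroup.2 (by decide)⟩
      ⟨Equiv.swap 0 1 * Equiv.swap 0 3, Equiv.Perm.mem_alternatingGroup.2 (by decide)⟩) (by decide)
  let q := QuotientGroup.mk' (solvableRadical H)
  have hq := QuotientGroup.mk'_surjective (solvableRadical H)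
  let g := (q.subgroupMap (derivedSeries H n))
  have hg : ∀ x, g x = 1 ↔ f x = 1 := fun x => by
    rw [Subtype.ext_iff]
    refine (QuotientGroup.eq_one_iff x.1).trans ⟨fun e => ?_, fun e =>
      FGS.map_solvableRadical_le_of_normal _ ⟨x, FGS.le_solvableRadical inferInstance hk e, rfl⟩⟩
    rcases (FGS.solvableRadical_normal (alternatingGroup (Fin 5))).eq_bot_or_eq_top with k | k
    · exact mem_bot.1 (k ▸ FGS.map_solvableRadical_le f hf
        ⟨x, FGS.solvableRadical_subgroupOf_le _ e, rfl⟩)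
    · exact absurd (FGS.solvableRadical_eq_top_iff.1 k) ns
  have e := (QuotientGroup.quotientKerEquivOfSurjective g (q.subgroupMap_surjective _)).symm.trans
    ((QuotientGroup.quotientMulEquivOfEq (Subgroup.ext hg)).trans
      (QuotientGroup.quotientKerEquivOfSurjective f hf))
  rw [map_derivedSeries_eq hq] at e
  have inj : Function.Injective (MulAut.conjNormal : _ →* MulAut (derivedSeries (H ⧸ solvableRadical H) n)) := by
    rw [← MonoidHom.ker_eq_bot_iff, eq_bot_iff, ← FGS.solvableRadical_quotient H]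
    refine FGS.le_solvableRadical inferInstance ⟨n, eq_bot_iff.2 fun x hx => ?_⟩
    have m := map_derivedSeries_le_derivedSeries (Subgroup.subtype _) n ⟨x, hx, rfl⟩
    have : e ⟨_, m⟩ ∈ center _ := mem_center_iff.2 fun y => by
      obtain ⟨y, rfl⟩ := e.surjective y
      rw [← map_mul, ← map_mul]
      exact congrArg e (Subtype.ext (mul_inv_eq_iff_eq_mul.1
        (congrArg Subtype.val (MulEquiv.congr_fun (MonoidHom.mem_ker.1 x.2) y))).symm)
    rw [(inferInstance : (center _).Normal).eq_bot_or_eq_top.resolve_right fun k => ns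
      (IsSimpleGroup.comm_iff_isSolvable.1 fun a b => mem_center_iff.1 (k ▸ mem_top b) a),
      mem_bot, map_eq_one_iff _ e.injective] at this
    have := Subtype.ext_iff.1 this
    exact Subtype.ext this
  have := Nat.card_le_card_of_injective _ inj
  rwa [Nat.card_congr (MulAut.congr e).toEquiv, ← Nat.card_eq_of_bijective _ (S2119.result 5 (by omega)
    (by omega)), Nat.card_perm, Nat.card_fin] at this

/-- `X` = perfect residual of `H` (non-trivial, even order by S0205, 2-rank 1 by `h2`); S3099: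
`X/O(X) ≅ SL₂(F)` or `2·A₇`. Sylow 3- and 5-subgroups of `H` are cyclic (S0126 + `h3`, `h5`), so are those of sections: this kills
`2·A₇`, `char F = 3`, and `char F = 5` with `#F > 5`. `#F = 5`: `H` acts on `X/O(X)⟨z⟩ ≅ A₅` (or on `X/O(X)`), `#Aut = 120` (S2119), the kernel
is solvable and normal, against `hR`. So `p = char F ≥ 7`; `π : Y → SL₂(ZMod p)` onto with odd kernel; `L ≤ Y` minimal with `π L = ⊤`,
`N = ker π|L`; `L` is perfect. `3 ∤ #N`: Frattini argument + minimality make the (cyclic) Sylow 3-subgroup `P` of `N` normal, so central,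
S0102 for `L → L/P`. Lift `Q₈ ⋊ 3`: `Q` Sylow 2 of the preimage of `SL₂(3)`, `x ∈ N(Q)` of order 3 permuting `i, j, k` cyclically mod `z`
(`z` the unique involution, central). If `Q` does not centralise `N`: `R ≤ N` minimal `⟨Q,x⟩`-invariant not centralised by `Q`; `R'` is
centralised by `Q` (`R` solvable, S0205); S0058 in `L/⟨z⟩` (or for the action) gives `1 ≠ y ∈ R` inverted by `i, j`, centralised by `k`;
`c = [y, y^x] ∈ R'` is fixed by `i` or `j` and then inverted by `y` or `y^x`, so `c = 1`; `w = y (y^x)⁻¹ ≠ 1`, `w w^x w^(x²) = 1`,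
`x` and `w x` contradict `h3`. So `Q ≤ C_L(N)`, `π C_L(N) = ⊤`, `N` central, S0102 + S0262 give `N = 1`. Finally `p ≡ 1 mod 3` is excluded by
`h3` for `x = diag(ω,ω⁻¹)`, `y = x !![1,1;0,1]` (trace `-1`). -/
theorem red {H : Type*} [Group H] [Finite H] (hR : 120 < (Cfsg.solvableRadical H).index)
    (h2 : ∀ a b : H, orderOf a = 2 → orderOf b = 2 → a = b)
    (h3 : ∀ x y : H, orderOf x = 3 → orderOf y = 3 → (x * y) ^ 3 = 1 → y = x ∨ y = x⁻¹)
    (h5 : ∀ a b : H, orderOf a = 5 → orderOf b = 5 → Commute a b → b ∈ Subgroup.zpowers a) :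
    ∃ (p : ℕ) (_ : Fact p.Prime), 11 ≤ p ∧ p % 3 = 2 ∧ ∃ φ : SL(2, ZMod p) →* H, Function.Injective φ := by
  have := Fact.mk Nat.prime_three
  have := Fact.mk Nat.prime_five
  obtain ⟨n, hn⟩ := WellFoundedLT.antitone_chain_condition (derivedSeries_antitone H)
  have ns : ¬ Group.IsSolvable (derivedSeries H n) := fun ⟨m, hm⟩ => by
    have k : ∀ m, (derivedSeries (derivedSeries H n) m).map (Subgroup.subtype _) = derivedSeries H n :=
      fun m => by
        induction m with
        | zero => exact (MonoidHom.range_eq_map _).symm.trans (range_subtype _)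
        | succ m ih => rw [derivedSeries_succ, map_commutator, ih, ← derivedSeries_succ,
            ← hn _ (Nat.le_succ n)]
    rw [FGS.solvableRadical_eq_top_iff.2 ⟨n, by rw [← k m, hm, Subgroup.map_bot]⟩, index_top] at hR
    omega
  have hP : Group.IsPerfect (derivedSeries H n) := ⟨map_injective (subtype_injective _) (by
    rw [_root_.commutator_def, map_commutator, ← MonoidHom.range_eq_map, range_subtype, ← derivedSeries_succ,
      ← hn _ (Nat.le_succ n)])⟩
  have h2' : ∀ a b : derivedSeries H n, orderOf a = 2 → orderOf b = 2 → a = b := fun a b ha hb =>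
    Subtype.ext (h2 a b (by rwa [orderOf_coe]) (by rwa [orderOf_coe]))
  have h3' := H3.of_inj h3 _ (derivedSeries H n).subtype_injective
  have c5 := (cy_of (by decide) h5).of_inj _ (derivedSeries H n).subtype_injective
  have hq := QuotientGroup.mk'_surjective (oddCore (derivedSeries H n))
  rcases S3099.result hP (fun A _ hA => by
    rcases A.bot_or_exists_ne_one with e | ⟨a, ha, a1⟩
    · simp [e]
    refine (card_le_of_le (K := zpowers a) fun b hb => ?_).trans (by
      rw [Nat.card_zpowers, orderOf_eq_prime (hA a ha) a1]; rfl)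
    by_cases b1 : b = 1
    · exact b1 ▸ one_mem _
    · exact h2' a b (orderOf_eq_prime (hA a ha) a1) (orderOf_eq_prime (hA b hb) b1) ▸ mem_zpowers a)
    (Nat.not_odd_iff_even.1 fun e => ns (S0205.result e)) with ⟨F, _, _, hF, F3, ⟨e⟩⟩ | ⟨-, ⟨e⟩, -⟩
  swap
  · exact absurd ((((h3'.cy.of_surj _ hq).of_surj _ (QuotientGroup.mk'_surjective _)).of_surj
      e.toMonoidHom e.surjective).mem (a := ⟨Equiv.swap 0 1 * Equiv.swap 0 2, Equiv.Perm.mem_alternatingGroup.2 (by decide)⟩)
      (b := ⟨Equiv.swap 3 4 * Equiv.swap 3 5, Equiv.Perm.mem_alternatingGroup.2 (by decide)⟩) (by decide) (by decide)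
      (Subtype.ext (by decide)) (by decide)) (by
        rw [mem_zpowers_iff_mem_range_orderOf, orderOf_eq_prime (p := 3) (by decide) (by decide)]
        decide)
  let ψ := e.toMonoidHom.comp (QuotientGroup.mk' _)
  have hψ : Function.Surjective ψ := e.surjective.comp hq
  have kψ : ψ.ker = oddCore _ := Subgroup.ext fun x => by simp [ψ, MonoidHom.mem_ker]
  have oψ : Odd (Nat.card ψ.ker) := kψ ▸ Nat.coprime_two_right.1 (Grp.pPrimeCore_coprime 2 _)
  obtain ⟨p, _⟩ := CharP.exists F
  obtain ⟨m, hp, hm⟩ := FiniteField.card F p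
  have := Fact.mk hp
  have p2 : p ≠ 2 := fun e => by
    rw [hm, e] at hF
    exact absurd (Nat.odd_pow_iff m.ne_zero |>.1 hF) (by decide)
  have p3 : p ≠ 3 := fun e => by
    subst e
    exact absurd (h3'.cy.of_surj ψ hψ).card_le (by omega)
  have p5 : p ≠ 5 := fun e => by
    subst e
    have c := (c5.of_surj ψ hψ).card_le
    obtain ⟨e'⟩ := S0253.result (F := F) (le_antisymm c (hm ▸ Nat.le_self_pow m.ne_zero 5))
    refine absurd (index_le (e'.toMonoidHom.comp ((pslMk F).comp ψ))
      (e'.surjective.comp (pslMk_surjective.comp hψ)) ?_) (by omega)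
    have := S0205.result oψ
    have : Group.IsSolvable (center SL(2, F)) :=
      isSolvable_of_comm fun a b => Subtype.ext (mem_center_iff.1 b.2 a)
    exact solvable_of_ker_le_range (inclusion (H := ψ.ker) fun x hx => by
      simp [MonoidHom.mem_ker.1 hx]) ((ψ.comp (Subgroup.subtype _)).codRestrict (center SL(2, F))
        fun x => (QuotientGroup.eq_one_iff _).1 (e'.injective ((MonoidHom.mem_ker.1 x.2).trans
          (map_one _).symm))) fun x hx => ⟨⟨x, Subtype.ext_iff.1 (MonoidHom.mem_ker.1 hx)⟩, rfl⟩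
  have p7 : 7 ≤ p := by
    by_contra! c
    interval_cases p <;> first | exact absurd hp (by decide) | simp at p2 p3 p5
  let ι : SL(2, ZMod p) →* SL(2, F) := Matrix.SpecialLinearGroup.map (ZMod.castHom dvd_rfl F)
  have hι : Function.Injective ι := fun a b e => Subtype.ext (Matrix.ext fun i j =>
    (ZMod.castHom dvd_rfl F).injective (congrFun (congrFun (congrArg Subtype.val e) i) j))
  obtain ⟨φ, hφ⟩ := exists_inj (p := p) (by omega) _ (ι.range.comap ψ) rfl
    (fun a b ha hb => Subtype.ext (h2' a b (by rwa [orderOf_coe]) (by rwa [orderOf_coe])))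
    (h3'.of_inj _ (subtype_injective _))
    ((MonoidHom.ofInjective hι).symm.toMonoidHom.comp (ψ.subgroupComap _))
    ((MonoidHom.ofInjective hι).symm.surjective.comp (ψ.subgroupComap_surjective_of_surjective _ hψ))
    (oψ.of_dvd_nat (by
      rw [show ((MonoidHom.ofInjective hι).symm.toMonoidHom.comp (ψ.subgroupComap _)).ker =
        ψ.ker.comap (Subgroup.subtype _) from Subgroup.ext fun x =>
          (map_eq_one_iff _ (MonoidHom.ofInjective hι).symm.injective).trans Subtype.ext_iff]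
      exact card_comap_dvd_of_injective _ _ (subtype_injective _)))
  have hφ' := (subtype_injective _).comp ((subtype_injective _).comp hφ)
  have k := (H3.of_inj h3 ((Subgroup.subtype _).comp ((Subgroup.subtype _).comp φ)) hφ').mod
  have k0 : p % 3 ≠ 0 := fun e =>
    p3 ((Nat.prime_dvd_prime_iff_eq Nat.prime_three hp).1 (Nat.dvd_of_mod_eq_zero e)).symm
  refine ⟨p, this, ?_, by omega, (Subgroup.subtype _).comp ((Subgroup.subtype _).comp φ), hφ'⟩
  by_contra! c
  interval_cases p <;> first | exact absurd hp (by decide) | simp at k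

end Cfsg.Agent.Fix6
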